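import Cfsg.Agent.Lib.PGroups.Basic
import Mathlib

/-!
# `p`-groups with derived factor group of order `p²`

* `comm_of_index_le`: derived factor group of order at most `p` forces a commutative group.
* `big`: a normal subgroup outside the derived subgroup contains it and has index at most `p`.
* `centralizer_le_sq`: outside an abelian normal subgroup of index `p` centralizers have order at
  most `p²`.
* `card_le_centralizer_mul_commutator`: the class of an element has at most `|R'|` members.
-/

set_option autoImplicit false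
set_option linter.style.haveILetI false
set_option linter.unusedSectionVars false

open scoped commutatorElement

namespace CfsgLib.SmallAbelianization

variable {R : Type*} [Group R] [Finite R] {p : ℕ} [hp : Fact p.Prime]

/-- A subgroup of index at most `p` in a `p`-group and a suitable element generate. -/
theorem exists_sup_zpowers (hR : IsPGroup p R) (U : Subgroup R) (hU : U.index ≤ p) :
    ∃ b : R, Subgroup.zpowers b ⊔ U = ⊤ := by
  by_cases hb : ∃ b, b ∉ U
  · obtain ⟨b, hb⟩ := hb
    refine ⟨b, Subgroup.index_eq_one.1 ?_⟩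
    obtain ⟨j, hj⟩ := hR.index (Subgroup.zpowers b ⊔ U)
    have hdvd : (Subgroup.zpowers b ⊔ U).index ∣ U.index := Subgroup.index_dvd_of_le le_sup_right
    have hlt : (Subgroup.zpowers b ⊔ U).index < U.index := by
      refine lt_of_le_of_ne (Nat.le_of_dvd (Nat.pos_of_ne_zero U.index_ne_zero_of_finite) hdvd) ?_
      intro he
      have h1 := Subgroup.relIndex_mul_index (le_sup_right : U ≤ Subgroup.zpowers b ⊔ U)
      rw [he] at h1
      have h2 : U.relIndex (Subgroup.zpowers b ⊔ U) = 1 :=
        Nat.eq_of_mul_eq_mul_right (Nat.pos_of_ne_zero U.index_ne_zero_of_finite) (by rw [h1, one_mul])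
      exact hb (Subgroup.relIndex_eq_one.1 h2 (Subgroup.mem_sup_left (Subgroup.mem_zpowers b)))
    rcases j with _ | j
    · simpa using hj
    · exfalso
      have : p ≤ p ^ (j + 1) := Nat.le_self_pow (by omega) p
      omega
  · push Not at hb
    exact ⟨1, le_antisymm le_top fun x _ => Subgroup.mem_sup_right (hb x)⟩

theorem sup_eq_top_of_commutator (hR : IsPGroup p R) {K : Subgroup R}
    (h : K ⊔ commutator R = ⊤) : K = ⊤ :=
  frattini_nongenerating (le_antisymm le_top
    (h.ge.trans (sup_le_sup_left (CfsgLib.PGroups.commutator_le_frattini' hR) K)))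

omit [Finite R] in
/-- If `R = A⟨b⟩` and `A` is central modulo the normal subgroup `I`, then `R' ≤ I`. -/
theorem commutator_le_of (A I : Subgroup R) [A.Normal] [I.Normal] (b : R)
    (hgen : Subgroup.zpowers b ⊔ A = ⊤) (hAA : ∀ a ∈ A, ∀ a' ∈ A, ⁅a, a'⁆ ∈ I)
    (hAb : ∀ a ∈ A, ⁅a, b⁆ ∈ I) : commutator R ≤ I := by
  let f : R →* R ⧸ I := QuotientGroup.mk' I
  have hcm : ∀ {x z}, ⁅x, z⁆ ∈ I → Commute (f x) (f z) := fun {x z} h => by
    rw [← commutatorElement_eq_one_iff_commute, ← map_commutatorElement]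
    exact (QuotientGroup.eq_one_iff _).2 h
  have hgenc : ∀ x : R, ∀ z : R, Commute (f x) (f z) := by
    have key : ∀ x : R, (∀ a ∈ A, Commute (f x) (f a)) ∧ Commute (f x) (f b) := by
      intro x
      obtain ⟨u, hu, a, ha, rfl⟩ := Subgroup.mem_sup_of_normal_right.1
        (hgen.ge (Subgroup.mem_top x))
      obtain ⟨i, rfl⟩ := Subgroup.mem_zpowers_iff.1 hu
      rw [map_mul, map_zpow]
      exact ⟨fun a' ha' => (((hcm (hAb a' ha')).symm.zpow_left i)).mul_left (hcm (hAA a ha a' ha')),
        ((Commute.refl (f b)).zpow_left i).mul_left (hcm (hAb a ha))⟩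
    intro x z
    obtain ⟨u, hu, a, ha, rfl⟩ := Subgroup.mem_sup_of_normal_right.1
      (hgen.ge (Subgroup.mem_top z))
    obtain ⟨i, rfl⟩ := Subgroup.mem_zpowers_iff.1 hu
    rw [map_mul, map_zpow]
    exact ((key x).2.zpow_right i).mul_right ((key x).1 a ha)
  rw [commutator_def, Subgroup.commutator_le]
  intro x _ z _
  refine (QuotientGroup.eq_one_iff _).1 ?_
  show f ⁅x, z⁆ = 1
  rw [map_commutatorElement]
  exact commutatorElement_eq_one_iff_commute.2 (hgenc x z)

theorem comm_of_index_le (hR : IsPGroup p R) (h : (commutator R).index ≤ p) :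
    commutator R = ⊥ := by
  obtain ⟨b, hb⟩ := exists_sup_zpowers hR _ h
  have hz : Subgroup.zpowers b = ⊤ := sup_eq_top_of_commutator hR hb
  refine le_bot_iff.1 (commutator_le_of (⊥ : Subgroup R) ⊥ b (by rw [hz, top_sup_eq]) ?_ ?_)
  · intro a ha a' _
    rw [Subgroup.mem_bot.1 ha, commutatorElement_one_left]
    exact one_mem _
  · intro a ha
    rw [Subgroup.mem_bot.1 ha, commutatorElement_one_left]
    exact one_mem _

theorem big (hR : IsPGroup p R) (hidx : (commutator R).index = p ^ 2) (A : Subgroup R) [A.Normal]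
    (hA : ¬ A ≤ commutator R) : commutator R ≤ A ∧ A.index ≤ p := by
  have hU : (A ⊔ commutator R).index ≤ p := by
    have hdvd : (A ⊔ commutator R).index ∣ p ^ 2 := hidx ▸ Subgroup.index_dvd_of_le le_sup_right
    obtain ⟨j, hj, hje⟩ := (Nat.dvd_prime_pow hp.out).1 hdvd
    rw [hje]
    have hj2 : j ≠ 2 := by
      intro h2
      rw [h2, ← hidx] at hje
      apply hA
      have h1 := Subgroup.relIndex_mul_index
        (le_sup_right : commutator R ≤ A ⊔ commutator R)
      rw [hje] at h1
      have h3 : (commutator R).relIndex (A ⊔ commutator R) = 1 :=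
        Nat.eq_of_mul_eq_mul_right (Nat.pos_of_ne_zero Subgroup.index_ne_zero_of_finite)
          (by rw [h1, one_mul])
      exact le_sup_left.trans (Subgroup.relIndex_eq_one.1 h3)
    have hp1 := hp.out.one_lt
    interval_cases j <;> simp <;> omega
  obtain ⟨b, hb⟩ := exists_sup_zpowers hR _ hU
  have hz : Subgroup.zpowers b ⊔ A = ⊤ := sup_eq_top_of_commutator hR (by rw [sup_assoc]; exact hb)
  have hle : commutator R ≤ A := by
    refine commutator_le_of A A b hz (fun a ha a' ha' => ?_) (fun a ha => ?_)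
    · exact A.mul_mem (A.mul_mem (A.mul_mem ha ha') (A.inv_mem ha)) (A.inv_mem ha')
    · rw [commutatorElement_def, show a * b * a⁻¹ * b⁻¹ = a * (b * a⁻¹ * b⁻¹) by group]
      exact A.mul_mem ha (Subgroup.Normal.conj_mem inferInstance _ (A.inv_mem ha) b)
  refine ⟨hle, ?_⟩
  rwa [sup_eq_left.2 hle] at hU

theorem disjoint_false (hR : IsPGroup p R) (hidx : (commutator R).index = p ^ 2)
    (hne : commutator R ≠ ⊥) (A B : Subgroup R) [A.Normal] [B.Normal] (hAB : A ⊓ B = ⊥)
    (hA : ¬ A ≤ commutator R) (hB : ¬ B ≤ commutator R) : False :=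
  hne (le_bot_iff.1 ((le_inf (big hR hidx A hA).1 (big hR hidx B hB).1).trans hAB.le))

theorem zpowers_sup_eq_top {A : Subgroup R} (hA : A.index = p) {b : R} (hb : b ∉ A) :
    Subgroup.zpowers b ⊔ A = ⊤ := by
  refine Subgroup.index_eq_one.1 ?_
  have hdvd : (Subgroup.zpowers b ⊔ A).index ∣ p :=
    hA ▸ Subgroup.index_dvd_of_le le_sup_right
  refine ((Nat.dvd_prime hp.out).1 hdvd).resolve_right fun he => hb ?_
  have h1 := Subgroup.relIndex_mul_index (le_sup_right : A ≤ Subgroup.zpowers b ⊔ A)
  rw [hA, he] at h1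
  have h2 : A.relIndex (Subgroup.zpowers b ⊔ A) = 1 :=
    Nat.eq_of_mul_eq_mul_right hp.out.pos (by rw [h1, one_mul])
  exact Subgroup.relIndex_eq_one.1 h2 (Subgroup.mem_sup_left (Subgroup.mem_zpowers b))

theorem centralizer_le_sq (hidx : (commutator R).index = p ^ 2) (A : Subgroup R) [A.Normal]
    (hAi : A.index = p) (hAc : ∀ a ∈ A, ∀ a' ∈ A, Commute a a') {b : R} (hb : b ∉ A) :
    Nat.card (Subgroup.centralizer ({b} : Set R)) ≤ p ^ 2 := by
  have hgen := zpowers_sup_eq_top hAi hb
  have hmem : ∀ a ∈ A, ⁅a, b⁆ ∈ A := fun a ha => by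
    rw [commutatorElement_def, show a * b * a⁻¹ * b⁻¹ = a * (b * a⁻¹ * b⁻¹) by group]
    exact A.mul_mem ha (Subgroup.Normal.conj_mem inferInstance _ (A.inv_mem ha) b)
  let f : A →* R :=
    { toFun := fun a => ⁅(a : R), b⁆
      map_one' := by simp
      map_mul' := fun a a' => by
        rw [Subgroup.coe_mul, commutatorElement_mul_left_eq_conj_mul,
          (hAc _ a.2 _ (hmem _ a'.2)).eq, mul_inv_cancel_right]
        exact (hAc _ (hmem _ a'.2) _ (hmem _ a.2)).eq }
  have hfA : f.range ≤ A := by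
    rintro _ ⟨a, rfl⟩
    exact hmem a a.2
  have hfb : ∀ x ∈ f.range, b * x * b⁻¹ ∈ f.range := by
    rintro _ ⟨a, rfl⟩
    refine ⟨⟨b * a * b⁻¹, Subgroup.Normal.conj_mem inferInstance _ a.2 b⟩, ?_⟩
    show ⁅b * (a : R) * b⁻¹, b⁆ = b * ⁅(a : R), b⁆ * b⁻¹
    rw [commutatorElement_def, commutatorElement_def]
    group
  haveI hIn : f.range.Normal := by
    rw [← Subgroup.normalizer_eq_top_iff, ← top_le_iff, ← hgen, sup_le_iff, Subgroup.zpowers_le]
    constructor
    · rw [Subgroup.mem_normalizer_iff]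
      intro x
      refine ⟨hfb x, fun hx => ?_⟩
      obtain ⟨a, ha⟩ := hx
      let a' : A := ⟨b⁻¹ * (a : R) * b, by
        simpa using Subgroup.Normal.conj_mem (H := A) inferInstance _ a.2 b⁻¹⟩
      refine ⟨a', ?_⟩
      show ⁅b⁻¹ * (a : R) * b, b⁆ = x
      have ha' : ⁅(a : R), b⁆ = b * x * b⁻¹ := ha
      calc ⁅b⁻¹ * (a : R) * b, b⁆ = b⁻¹ * ⁅(a : R), b⁆ * b := by
            rw [commutatorElement_def, commutatorElement_def]; group
        _ = x := by rw [ha']; group
    · intro a ha
      rw [Subgroup.mem_normalizer_iff]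
      intro x
      constructor
      · intro hx
        rwa [(hAc a ha x (hfA hx)).eq, mul_inv_cancel_right]
      · intro hx
        have hxA : x ∈ A := by
          have h1 := A.mul_mem (A.mul_mem (A.inv_mem ha) (hfA hx)) ha
          simpa [mul_assoc] using h1
        rwa [(hAc a ha x hxA).eq, mul_inv_cancel_right] at hx
  have hle : commutator R ≤ f.range := commutator_le_of A f.range b hgen
    (fun a ha a' ha' => by
      rw [(hAc a ha a' ha').commutator_eq]; exact one_mem _)
    (fun a ha => ⟨⟨a, ha⟩, rfl⟩)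
  have hker : Nat.card f.ker ≤ p := by
    have h1 := f.ker.card_mul_index
    rw [Subgroup.index_ker] at h1
    have h2 := (commutator R).card_mul_index
    rw [hidx, ← A.card_mul_index, hAi, ← h1] at h2
    have h3 := Subgroup.card_le_of_le hle
    have h4 : Nat.card f.ker * Nat.card f.range ≤ p * Nat.card f.range := by
      have h5 : Nat.card (commutator R) * p = Nat.card f.ker * Nat.card f.range := by
        refine Nat.eq_of_mul_eq_mul_right hp.out.pos ?_
        rw [mul_assoc, ← pow_two]; exact h2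
      rw [← h5, mul_comm]
      exact Nat.mul_le_mul_left p h3
    exact Nat.le_of_mul_le_mul_right h4 Nat.card_pos
  set C := Subgroup.centralizer ({b} : Set R)
  have hmapker : Nat.card (A.subgroupOf C) ≤ p := by
    refine le_trans ?_ hker
    refine Nat.card_le_card_of_injective (fun c => ⟨⟨((c : C) : R), c.2⟩, ?_⟩) ?_
    · show ⁅((c : C) : R), b⁆ = 1
      exact commutatorElement_eq_one_iff_commute.2
        (Subgroup.mem_centralizer_singleton_iff.1 (c : C).2)
    · intro c c' h
      have h1 := congrArg (fun z : f.ker => ((z : A) : R)) h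
      exact Subtype.ext (Subtype.ext h1)
  have hCi : (A.subgroupOf C).index ≤ p := by
    have h := A.relIndex_dvd_index_of_normal C
    rw [hAi] at h
    exact Nat.le_of_dvd hp.out.pos h
  rw [← (A.subgroupOf C).card_mul_index, pow_two]
  exact Nat.mul_le_mul hmapker hCi

omit hp in
/-- The class of `b` has at most `|R'|` elements. -/
theorem card_le_centralizer_mul_commutator (b : R) :
    Nat.card R ≤ Nat.card (Subgroup.centralizer ({b} : Set R)) * Nat.card (commutator R) := by
  set C := Subgroup.centralizer ({b} : Set R)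
  rw [← C.card_mul_index]
  refine Nat.mul_le_mul_left _ ?_
  rw [Subgroup.index_eq_card]
  let F : R ⧸ C → (commutator R) := Quotient.lift
    (fun g => ⟨⁅g, b⁆, by
      rw [commutator_def]
      exact Subgroup.commutator_mem_commutator (Subgroup.mem_top g) (Subgroup.mem_top b)⟩)
    (fun g h hgh => by
      have hm : g⁻¹ * h ∈ C := QuotientGroup.leftRel_apply.1 hgh
      have hc : (g⁻¹ * h) * b = b * (g⁻¹ * h) := Subgroup.mem_centralizer_singleton_iff.1 hm
      apply Subtype.ext
      show ⁅g, b⁆ = ⁅h, b⁆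
      rw [commutatorElement_def, commutatorElement_def]
      calc g * b * g⁻¹ * b⁻¹ = g * (b * (g⁻¹ * h)) * (g⁻¹ * h)⁻¹ * g⁻¹ * b⁻¹ := by group
        _ = g * ((g⁻¹ * h) * b) * (g⁻¹ * h)⁻¹ * g⁻¹ * b⁻¹ := by rw [hc]
        _ = h * b * h⁻¹ * b⁻¹ := by group)
  refine Nat.card_le_card_of_injective F ?_
  rintro ⟨g⟩ ⟨h⟩ hgh
  have he : ⁅g, b⁆ = ⁅h, b⁆ := congrArg Subtype.val hgh
  refine Quotient.sound (QuotientGroup.leftRel_apply.2 (Subgroup.mem_centralizer_singleton_iff.2 ?_))
  rw [commutatorElement_def, commutatorElement_def, mul_left_inj] at he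
  calc g⁻¹ * h * b = g⁻¹ * (h * b * h⁻¹) * h := by group
    _ = g⁻¹ * (g * b * g⁻¹) * h := by rw [he]
    _ = b * (g⁻¹ * h) := by group

end CfsgLib.SmallAbelianization
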