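import Cfsg.Agent.Lib.PGroups.SmallAbelianization.Basic
import Cfsg.Agent.Lib.Transfer.Tate
import Cfsg.Agent.Lib.Components.FStar
import Cfsg.Agent.Lib.Core.MinNormal

/-!
# Sylow subgroups with derived factor group of order `p²`

In a group with trivial `p'`-core, core free `P'` and not almost simple, such a non-abelian Sylow
subgroup has an abelian normal subgroup of index `p` cut out by a normal subgroup of the group.
-/

set_option autoImplicit false
set_option linter.style.haveILetI false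
set_option linter.unusedSectionVars false

open scoped Pointwise commutatorElement

namespace CfsgLib.SmallAbelianization

open Cfsg

variable {G : Type*} [Group G] [Finite G] {p : ℕ} [hp : Fact p.Prime]

theorem pPrimeCore_bot_of_normalized {A B : Subgroup G} (hAB : A ≤ B)
    (hn : B ≤ Subgroup.normalizer (A : Set G)) (hB : pPrimeCore p B = ⊥) :
    pPrimeCore p A = ⊥ := by
  haveI : (A.subgroupOf B).Normal := Subgroup.normal_subgroupOf_of_le_normalizer hn
  have h1 := Core.map_subtype_pPrimeCore_le (p := p) (A.subgroupOf B)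
  rw [hB, le_bot_iff, Subgroup.map_eq_bot_iff_of_injective _
    (Subgroup.subtype_injective _)] at h1
  rw [← Core.map_equiv_pPrimeCore (Subgroup.subgroupOfEquivOfLe hAB), h1, Subgroup.map_bot]

/-- Tate: a normalised subgroup with trivial `p'`-core that is no `p`-group meets `P` outside the
derived subgroup of `P`. -/
theorem not_le_commutator (P : Sylow p G) {M : Subgroup G}
    (hPM : (P : Subgroup G) ≤ Subgroup.normalizer (M : Set G)) (hcore : pPrimeCore p M = ⊥)
    (hM : ¬ IsPGroup p M) : ¬ M.subgroupOf (P : Subgroup G) ≤ commutator (P : Subgroup G) := by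
  intro h
  apply hM
  set K : Subgroup G := Subgroup.normalizer (M : Set G)
  haveI : (M.subgroupOf K).Normal := Subgroup.normal_subgroupOf_of_le_normalizer le_rfl
  set PK : Sylow p K := P.subtype hPM
  let g : (P : Subgroup G) →* (PK : Subgroup K) :=
    { toFun := fun x => ⟨⟨x, hPM x.2⟩, x.2⟩
      map_one' := rfl
      map_mul' := fun _ _ => rfl }
  have hle : M.subgroupOf K ⊓ (PK : Subgroup K) ≤ (frattini PK).map (PK : Subgroup K).subtype := by
    intro x hx
    have hxP : (x : G) ∈ (P : Subgroup G) := hx.2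
    have hxc : (⟨(x : G), hxP⟩ : (P : Subgroup G)) ∈ commutator (P : Subgroup G) := h hx.1
    refine ⟨g ⟨x, hxP⟩, PGroups.commutator_le_frattini' PK.isPGroup' ?_, rfl⟩
    have h2 : (commutator (P : Subgroup G)).map g ≤ commutator (PK : Subgroup K) := by
      rw [commutator_def, commutator_def, Subgroup.map_commutator]
      exact Subgroup.commutator_mono le_top le_top
    exact h2 (Subgroup.mem_map_of_mem g hxc)
  obtain ⟨S, Kc, hKn, hKc⟩ :=
    CfsgLib.Transfer.hasNormalPComplement_of_inf_le_frattini PK (M.subgroupOf K) hle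
  have hKle : Subgroup.normalizer (M : Set G) = K := rfl
  have hMK : M ≤ K := Subgroup.le_normalizer
  haveI := hKn
  have hbot : pPrimeCore p (M.subgroupOf K) = ⊥ := by
    rw [← Core.map_equiv_pPrimeCore (Subgroup.subgroupOfEquivOfLe hMK).symm, hcore,
      Subgroup.map_bot]
  have hKcop : (Nat.card Kc).Coprime p := by
    rw [← hKc.index_eq_card]
    exact (hp.out.coprime_iff_not_dvd.2 S.not_dvd_index).symm
  have hKbot : Kc = ⊥ := le_bot_iff.1 ((Core.le_pPrimeCore hKcop).trans hbot.le)
  have hcard := hKc.card_mul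
  rw [hKbot, Subgroup.card_bot, one_mul] at hcard
  have hStop : (S : Subgroup (M.subgroupOf K)) = ⊤ := Subgroup.eq_top_of_card_eq _ hcard
  have hp' : IsPGroup p (M.subgroupOf K) := by
    have := S.isPGroup'
    rw [hStop] at this
    exact this.of_equiv Subgroup.topEquiv
  exact hp'.of_equiv (Subgroup.subgroupOfEquivOfLe hMK)

theorem pair_false (P : Sylow p G) (hidx : (commutator (P : Subgroup G)).index = p ^ 2)
    (hne : commutator (P : Subgroup G) ≠ ⊥) {A B : Subgroup G}
    (hA : (P : Subgroup G) ≤ Subgroup.normalizer (A : Set G))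
    (hB : (P : Subgroup G) ≤ Subgroup.normalizer (B : Set G)) (hAB : A ⊓ B = ⊥)
    (hA' : ¬ A.subgroupOf (P : Subgroup G) ≤ commutator (P : Subgroup G))
    (hB' : ¬ B.subgroupOf (P : Subgroup G) ≤ commutator (P : Subgroup G)) : False := by
  haveI : (A.subgroupOf (P : Subgroup G)).Normal :=
    Subgroup.normal_subgroupOf_of_le_normalizer hA
  haveI : (B.subgroupOf (P : Subgroup G)).Normal :=
    Subgroup.normal_subgroupOf_of_le_normalizer hB
  refine disjoint_false P.isPGroup' hidx hne _ _ ?_ hA' hB'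
  rw [eq_bot_iff]
  intro x hx
  exact Subgroup.mem_bot.2 (Subtype.ext (Subgroup.mem_bot.1 (hAB.le ⟨hx.1, hx.2⟩)))

/-- Every minimal normal subgroup meets `P` outside `P'`. -/
theorem minimal_not_le (P : Sylow p G) (hcore : pPrimeCore p G = ⊥)
    (hcore' : (⁅(P : Subgroup G), (P : Subgroup G)⁆).normalCore = ⊥) {N : Subgroup G}
    (hNn : N.Normal) (hN : N ≠ ⊥) (hmin : ∀ K : Subgroup G, K.Normal → K ≤ N → K = ⊥ ∨ K = N) :
    ¬ N.subgroupOf (P : Subgroup G) ≤ commutator (P : Subgroup G) := by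
  haveI := hNn
  by_cases hna : ⁅N, N⁆ = ⊥
  · have hc : IsMulCommutative N := Core.isMulCommutative_iff_commutator_eq_bot.2 hna
    obtain ⟨r, hr, hrx⟩ := Core.exists_prime_pow_eq_one_of_minimal_normal N hc hN hmin
    haveI := Fact.mk hr
    have hNr : IsPGroup r N := fun x => ⟨1, by
      rw [pow_one]; exact Subtype.ext (hrx x x.2)⟩
    have hrp : r = p := by
      by_contra hne
      obtain ⟨k, hk⟩ := IsPGroup.iff_card.1 hNr
      exact hN (le_bot_iff.1 (hcore ▸ Core.le_pPrimeCore (by
        rw [hk]; exact ((Nat.coprime_primes hr hp.out).2 hne).pow_left k)))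
    subst hrp
    have hNP : N ≤ (P : Subgroup G) := hNr.le_sylow_of_normal P
    intro h
    have hle : N ≤ ⁅(P : Subgroup G), (P : Subgroup G)⁆ := by
      intro x hx
      have h1 : (⟨x, hNP hx⟩ : (P : Subgroup G)) ∈ commutator (P : Subgroup G) := h hx
      rw [← Subgroup.map_subtype_commutator]
      exact ⟨_, h1, rfl⟩
    exact hN (le_bot_iff.1 (hcore' ▸ Subgroup.normal_le_normalCore.2 hle))
  · refine not_le_commutator P (by rw [Subgroup.normalizer_eq_top]; exact le_top) ?_ ?_
    · have h1 := Core.map_subtype_pPrimeCore_le (p := p) N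
      rwa [hcore, le_bot_iff, Subgroup.map_eq_bot_iff_of_injective _ N.subtype_injective] at h1
    · intro hpg
      haveI := hpg.isNilpotent
      exact hna (Core.isMulCommutative_iff_commutator_eq_bot.1
        (Core.commutative_of_minimal_normal N inferInstance hN hmin))

theorem exists_normal_inter (P : Sylow p G) (hcore : pPrimeCore p G = ⊥)
    (hcore' : (⁅(P : Subgroup G), (P : Subgroup G)⁆).normalCore = ⊥)
    (hnas : ¬ ∃ S : Subgroup G, S.Normal ∧ IsSimpleGroup S ∧ ¬ IsMulCommutative S ∧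
      Subgroup.centralizer (S : Set G) = ⊥)
    (hidx : (commutator (P : Subgroup G)).index = p ^ 2)
    (hne : commutator (P : Subgroup G) ≠ ⊥) :
    ∃ N : Subgroup G, N.Normal ∧ (N.subgroupOf (P : Subgroup G)).index = p ∧
      ∀ a ∈ N.subgroupOf (P : Subgroup G), ∀ a' ∈ N.subgroupOf (P : Subgroup G), Commute a a' := by
  classical
  have hPne : (P : Subgroup G) ≠ ⊥ := fun h => hne (by
    haveI : Subsingleton (P : Subgroup G) := by rw [h]; infer_instance
    exact Subgroup.eq_bot_of_subsingleton _)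
  haveI : Nontrivial G := by
    obtain ⟨x, -, hx⟩ := (P : Subgroup G).bot_or_exists_ne_one.resolve_left hPne
    exact ⟨⟨x, 1, hx⟩⟩
  obtain ⟨N, hNn, hN, -, hmin⟩ := Core.exists_minimal_normal_le' (⊤ : Subgroup G) top_ne_bot
  haveI := hNn
  have hPN : (P : Subgroup G) ≤ Subgroup.normalizer (N : Set G) := by
    rw [Subgroup.normalizer_eq_top]; exact le_top
  have hNnot := minimal_not_le P hcore hcore' hNn hN hmin
  haveI hQn : (N.subgroupOf (P : Subgroup G)).Normal := hNn.subgroupOf _
  have hbig := big P.isPGroup' hidx (N.subgroupOf (P : Subgroup G)) hNnot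
  have hidx1 : (N.subgroupOf (P : Subgroup G)).index ≠ 1 →
      (N.subgroupOf (P : Subgroup G)).index = p := by
    intro h1
    obtain ⟨j, hj⟩ := P.isPGroup'.index (N.subgroupOf (P : Subgroup G))
    rcases j with _ | j
    · exact absurd (by simpa using hj) h1
    · have h2 : p ≤ p ^ (j + 1) := Nat.le_self_pow (by omega) p
      have h3 := hbig.2
      omega
  by_cases hna : ⁅N, N⁆ = ⊥
  · -- abelian minimal normal subgroup
    have hcom : ∀ a ∈ N.subgroupOf (P : Subgroup G), ∀ a' ∈ N.subgroupOf (P : Subgroup G),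
        Commute a a' := fun a ha a' ha' => Subtype.ext
      (commutatorElement_eq_one_iff_commute.1 (Subgroup.mem_bot.1
        (hna ▸ Subgroup.commutator_mem_commutator ha ha')))
    refine ⟨N, hNn, hidx1 fun h1 => hne ?_, hcom⟩
    rw [Subgroup.index_eq_one] at h1
    rw [commutator_def, eq_bot_iff, Subgroup.commutator_le]
    intro a _ a' _
    exact Subgroup.mem_bot.2 (commutatorElement_eq_one_iff_commute.2
      (hcom a (h1 ▸ Subgroup.mem_top a) a' (h1 ▸ Subgroup.mem_top a')))
  -- non-abelian minimal normal subgroup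
  have hCN : Subgroup.centralizer (N : Set G) = ⊥ := by
    by_contra hC
    haveI : (Subgroup.centralizer (N : Set G)).Normal := inferInstance
    obtain ⟨N', hN'n, hN', hN'C, hmin'⟩ :=
      Core.exists_minimal_normal_le' (Subgroup.centralizer (N : Set G)) hC
    haveI := hN'n
    rcases hmin (N ⊓ N') inferInstance inf_le_left with h | h
    · exact pair_false P hidx hne hPN (by rw [Subgroup.normalizer_eq_top]; exact le_top) h hNnot
        (minimal_not_le P hcore hcore' hN'n hN' hmin')
    · exact hna (Subgroup.commutator_eq_bot_iff_le_centralizer.2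
        ((inf_eq_left.1 h).trans hN'C))
  obtain ⟨hNsup, hsimple⟩ := Components.minimal_normal_eq_sSup_components hNn hmin hna
  set 𝒯 : Set (Subgroup G) := {L | Cfsg.IsComponent L ∧ L ≤ N} with h𝒯
  have hNcore : pPrimeCore p N = ⊥ := by
    have h1 := Core.map_subtype_pPrimeCore_le (p := p) N
    rwa [hcore, le_bot_iff, Subgroup.map_eq_bot_iff_of_injective _ N.subtype_injective] at h1
  have hLn : ∀ L ∈ 𝒯, N ≤ Subgroup.normalizer (L : Set G) := fun L hL =>
    hNsup.trans_le (sSup_le fun K hK => Components.component_le_normalizer_component hK.1 hL.1)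
  have hcomm : ∀ L ∈ 𝒯, ∀ K ∈ 𝒯, K ≠ L → K ≤ Subgroup.centralizer (L : Set G) :=
    fun L hL K hK h => Subgroup.commutator_eq_bot_iff_le_centralizer.1
      (Components.components_commute hK.1 hL.1 h)
  have hconjT : ∀ g : G, ∀ L ∈ 𝒯, MulAut.conj g • L ∈ 𝒯 := fun g L hL =>
    ⟨Components.isComponent_conj hL.1 g,
      (Subgroup.pointwise_smul_le_pointwise_smul_iff.2 hL.2).trans
        (Subgroup.Normal.conj_smul_eq_self g N).le⟩
  -- no proper invariant set of components
  have hsets : ∀ 𝒮 : Set (Subgroup G), 𝒮 ⊆ 𝒯 →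
      (∀ u ∈ (P : Subgroup G), ∀ L ∈ 𝒮, MulAut.conj u • L ∈ 𝒮) → 𝒮.Nonempty → 𝒮 = 𝒯 := by
    intro 𝒮 hS hinv hSne
    by_contra hneS
    have hne' : (𝒯 \ 𝒮).Nonempty := Set.sdiff_nonempty.2 fun h => hneS (Set.Subset.antisymm hS h)
    have main : ∀ 𝒰 : Set (Subgroup G), 𝒰 ⊆ 𝒯 →
        (∀ u ∈ (P : Subgroup G), ∀ L ∈ 𝒰, MulAut.conj u • L ∈ 𝒰) → 𝒰.Nonempty →
        (P : Subgroup G) ≤ Subgroup.normalizer ((sSup 𝒰 : Subgroup G) : Set G) ∧
        ¬ (sSup 𝒰).subgroupOf (P : Subgroup G) ≤ commutator (P : Subgroup G) := by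
      intro 𝒰 hU hUinv hUne
      have hn : (P : Subgroup G) ≤ Subgroup.normalizer ((sSup 𝒰 : Subgroup G) : Set G) := by
        intro u hu
        rw [Core.mem_normalizer_iff_conj_smul_eq]
        refine Subgroup.eq_of_le_of_card_ge ?_ (Core.card_conj_smul u _).ge
        rw [Subgroup.pointwise_smul_subset_iff, sSup_le_iff]
        intro L hL
        rw [← Subgroup.pointwise_smul_subset_iff]
        exact le_sSup (hUinv u hu L hL)
      refine ⟨hn, not_le_commutator P hn ?_ ?_⟩
      · refine pPrimeCore_bot_of_normalized (sSup_le fun L hL => (hU hL).2) ?_ hNcore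
        rw [hNsup]
        refine sSup_le fun K hK => ?_
        intro k hk
        rw [Core.mem_normalizer_iff_conj_smul_eq]
        refine Subgroup.eq_of_le_of_card_ge ?_ (Core.card_conj_smul k _).ge
        rw [Subgroup.pointwise_smul_subset_iff, sSup_le_iff]
        intro L hL
        rw [← Subgroup.pointwise_smul_subset_iff,
          Core.mem_normalizer_iff_conj_smul_eq.1 (hLn L (hU hL) (hK.2 hk))]
        exact le_sSup hL
      · obtain ⟨L, hL⟩ := hUne
        intro hpg
        haveI := (hpg.to_le (le_sSup hL)).isNilpotent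
        exact Components.IsComponent.not_isSolvable (hU hL).1 inferInstance
    obtain ⟨hA, hA'⟩ := main 𝒮 hS hinv hSne
    obtain ⟨hB, hB'⟩ := main (𝒯 \ 𝒮) Set.sdiff_subset (fun u hu L hL => ⟨hconjT u L hL.1, fun h =>
      hL.2 (by simpa [smul_smul, ← map_mul] using hinv u⁻¹ ((P : Subgroup G).inv_mem hu) _ h)⟩) hne'
    refine pair_false P hidx hne hA hB ?_ hA' hB'
    rw [eq_bot_iff, ← hCN]
    rintro z ⟨hzA, hzB⟩
    have hz : ∀ L ∈ 𝒯, z ∈ Subgroup.centralizer (L : Set G) := by
      intro L hL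
      by_cases h : L ∈ 𝒮
      · exact (sSup_le fun K hK => hcomm L hL K hK.1 fun e => hK.2 (e ▸ h)) hzB
      · exact (sSup_le fun K hK => hcomm L hL K (hS hK) fun e => h (e ▸ hK)) hzA
    have hle : N ≤ Subgroup.centralizer ({z} : Set G) := hNsup.trans_le (sSup_le fun L hL x hx =>
      Subgroup.mem_centralizer_singleton_iff.2 (Subgroup.mem_centralizer_iff.1 (hz L hL) x hx))
    exact Subgroup.mem_centralizer_iff.2 fun x hx =>
      Subgroup.mem_centralizer_singleton_iff.1 (hle hx)
  obtain ⟨T, hT⟩ : 𝒯.Nonempty := by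
    by_contra h
    rw [Set.not_nonempty_iff_eq_empty.1 h, sSup_empty] at hNsup
    exact hN hNsup
  obtain ⟨hTs, hTna⟩ := hsimple T hT.1 hT.2
  have horbit : ∀ L ∈ 𝒯, ∃ u ∈ (P : Subgroup G), MulAut.conj u • T = L := by
    intro L hL
    have h := hsets {K | ∃ u ∈ (P : Subgroup G), MulAut.conj u • T = K}
      (by rintro K ⟨u, -, rfl⟩; exact hconjT u T hT)
      (by rintro v hv K ⟨u, hu, rfl⟩
          exact ⟨v * u, mul_mem hv hu, by rw [map_mul, mul_smul]⟩)
      ⟨T, 1, one_mem _, by rw [map_one, one_smul]⟩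
    exact h.ge hL
  have hTN : T ≠ N := fun h => hnas ⟨N, hNn, h ▸ hTs, h ▸ hTna, hCN⟩
  have hPnot : ¬ (P : Subgroup G) ≤ Subgroup.normalizer (T : Set G) := by
    intro h
    apply hTN
    refine le_antisymm hT.2 ?_
    rw [hNsup]
    refine sSup_le fun L hL => ?_
    obtain ⟨u, hu, rfl⟩ := horbit L hL
    rw [Core.mem_normalizer_iff_conj_smul_eq.1 (h hu)]
  have hQi : (N.subgroupOf (P : Subgroup G)).index = p := hidx1 fun h1 => hPnot fun u hu => by
    rw [Subgroup.index_eq_one] at h1
    have : (⟨u, hu⟩ : (P : Subgroup G)) ∈ N.subgroupOf (P : Subgroup G) := h1 ▸ Subgroup.mem_top _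
    exact hLn T hT this
  refine ⟨N, hNn, hQi, ?_⟩
  set Qp := N.subgroupOf (P : Subgroup G) with hQp
  obtain ⟨b, hb⟩ : ∃ b, b ∉ Qp := by
    by_contra h
    push Not at h
    have := hQi ▸ Subgroup.index_eq_one.2 (eq_top_iff.2 fun x _ => h x)
    exact hp.out.ne_one this
  have hbT : ∀ i : ℕ, i ≠ 0 → i < p →
      MulAut.conj ((b : G) ^ i) • T ≠ T := by
    intro i hi0 hip he
    apply hPnot
    intro u hu
    have hbi : b ^ i ∉ Qp := by
      intro h
      have hgen := zpowers_sup_eq_top hQi hb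
      have hbp : b ^ p ∈ Qp := by
        have h9 := Subgroup.pow_index_mem Qp b
        rwa [hQi] at h9
      have hco : Nat.Coprime i p :=
        ((hp.out.coprime_iff_not_dvd).2 (Nat.not_dvd_of_pos_of_lt (Nat.pos_of_ne_zero hi0) hip)).symm
      have e : (b : (P : Subgroup G)) = (b ^ i) ^ Nat.gcdA i p * (b ^ p) ^ Nat.gcdB i p := by
        rw [← zpow_natCast b i, ← zpow_natCast b p, ← zpow_mul, ← zpow_mul, ← zpow_add,
          ← Nat.gcd_eq_gcd_ab, hco.gcd_eq_one, Nat.cast_one, zpow_one]
      exact hb (e ▸ Qp.mul_mem (Qp.zpow_mem h _) (Qp.zpow_mem hbp _))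
    have htop := zpowers_sup_eq_top hQi hbi
    have hle : Subgroup.zpowers (b ^ i) ⊔ Qp ≤
        (Subgroup.normalizer (T : Set G)).subgroupOf (P : Subgroup G) := by
      refine sup_le (Subgroup.zpowers_le.2 (Subgroup.mem_subgroupOf.2 ?_))
        fun x hx => hLn T hT hx
      rw [Subgroup.coe_pow, Core.mem_normalizer_iff_conj_smul_eq]
      exact he
    exact hle (htop.ge (Subgroup.mem_top ⟨u, hu⟩))
  have hTC : T ⊓ Subgroup.centralizer (T : Set G) = ⊥ := by
    haveI := hTs
    have h1 : Subgroup.center T = ⊥ := by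
      rcases (inferInstance : (Subgroup.center T).Normal).eq_bot_or_eq_top with h | h
      · exact h
      · exact absurd ⟨⟨fun a c => (Subgroup.mem_center_iff.1 (h ▸ Subgroup.mem_top a) c).symm⟩⟩ hTna
    rw [eq_bot_iff]
    rintro x ⟨hx, hxc⟩
    have h2 : (⟨x, hx⟩ : T) ∈ Subgroup.center T := Subgroup.mem_center_iff.2 fun y =>
      Subtype.ext (Subgroup.mem_centralizer_iff.1 hxc y y.2)
    rw [h1, Subgroup.mem_bot] at h2
    exact Subgroup.mem_bot.2 (congrArg Subtype.val h2)
  -- elements of `Qp` are products of an element of `T ⊓ P` and one centralising `T`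
  have hdec : ∀ q ∈ Qp, ∃ t : (P : Subgroup G), (t : G) ∈ T ∧
      ((t⁻¹ * q : (P : Subgroup G)) : G) ∈ Subgroup.centralizer (T : Set G) := by
    intro q hq
    set B := N ⊓ Subgroup.centralizer (T : Set G) with hB
    set Qg := N ⊓ (P : Subgroup G) with hQg
    let X : Subgroup G :=
      { carrier := {t | t ∈ T ∧ ∃ c ∈ B, t * c ∈ Qg}
        one_mem' := ⟨T.one_mem, 1, B.one_mem, by rw [one_mul]; exact Qg.one_mem⟩
        mul_mem' := by
          rintro t t' ⟨ht, c, hc, htc⟩ ⟨ht', c', hc', htc'⟩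
          refine ⟨T.mul_mem ht ht', c * c', B.mul_mem hc hc', ?_⟩
          have h1 : t' * c = c * t' := Subgroup.mem_centralizer_iff.1 hc.2 t' ht'
          have e : t * t' * (c * c') = t * c * (t' * c') := by
            calc t * t' * (c * c') = t * (t' * c) * c' := by group
              _ = t * (c * t') * c' := by rw [h1]
              _ = t * c * (t' * c') := by group
          rw [e]
          exact Qg.mul_mem htc htc'
        inv_mem' := by
          rintro t ⟨ht, c, hc, htc⟩
          refine ⟨T.inv_mem ht, c⁻¹, B.inv_mem hc, ?_⟩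
          have h1 : t * c = c * t := Subgroup.mem_centralizer_iff.1 hc.2 t ht
          have h2 := Qg.inv_mem htc
          rwa [h1, mul_inv_rev] at h2 }
    have hXp : IsPGroup p X := by
      rintro ⟨t, ht, c, hc, htc⟩
      obtain ⟨k, hk⟩ := P.isPGroup' ⟨t * c, htc.2⟩
      refine ⟨k, Subtype.ext ?_⟩
      have h1 : Commute t c := Subgroup.mem_centralizer_iff.1 hc.2 t ht
      have h2 : (t * c) ^ p ^ k = 1 := congrArg Subtype.val hk
      rw [h1.mul_pow, mul_eq_one_iff_eq_inv] at h2
      have h3 : t ^ p ^ k ∈ T ⊓ Subgroup.centralizer (T : Set G) :=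
        ⟨T.pow_mem ht _, h2 ▸ Subgroup.inv_mem _ (Subgroup.pow_mem _ hc.2 _)⟩
      rw [hTC, Subgroup.mem_bot] at h3
      exact h3
    have hXn : Qg ≤ Subgroup.normalizer (X : Set G) := by
      intro u hu
      have hBn : ∀ v ∈ N, ∀ c ∈ B, v * c * v⁻¹ ∈ B := by
        intro v hv c hc
        refine ⟨N.mul_mem (N.mul_mem hv hc.1) (N.inv_mem hv), Subgroup.mem_centralizer_iff.2
          fun x hx => ?_⟩
        have hx' : v⁻¹ * x * v ∈ T := by
          have := (Subgroup.mem_normalizer_iff.1 (hLn T hT (N.inv_mem hv)) x).1 hx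
          simpa using this
        have h1 := Subgroup.mem_centralizer_iff.1 hc.2 _ hx'
        calc x * (v * c * v⁻¹) = v * ((v⁻¹ * x * v) * c) * v⁻¹ := by group
          _ = v * (c * (v⁻¹ * x * v)) * v⁻¹ := by rw [h1]
          _ = v * c * v⁻¹ * x := by group
      rw [Core.mem_normalizer_iff_conj_smul_eq]
      refine Subgroup.eq_of_le_of_card_ge ?_ (Core.card_conj_smul u _).ge
      intro x hx
      rw [Core.mem_conj_smul_iff] at hx
      obtain ⟨ht, c, hc, htc⟩ := hx
      have hxT : x ∈ T := by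
        have := (Subgroup.mem_normalizer_iff.1 (hLn T hT hu.1) _).1 ht
        simpa [mul_assoc] using this
      refine ⟨hxT, u * c * u⁻¹, hBn u hu.1 c hc, ?_⟩
      have h2 := Qg.mul_mem (Qg.mul_mem hu htc) (Qg.inv_mem hu)
      have e : u * (u⁻¹ * x * u * c) * u⁻¹ = x * (u * c * u⁻¹) := by group
      rwa [e] at h2
    have hW : IsPGroup p (Qg ⊔ X : Subgroup G) :=
      (P.isPGroup'.to_le inf_le_right).to_sup_of_normal_right' hXp hXn
    obtain ⟨S, hS⟩ := hW.exists_le_sylow
    obtain ⟨g, hg⟩ := MulAction.exists_smul_eq G P S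
    have hXle : X ≤ (P : Subgroup G) := by
      have hSco : (S : Subgroup G) = MulAut.conj g • (P : Subgroup G) := by
        rw [← hg, Sylow.coe_subgroup_smul]
      have hle : Qg ⊔ X ≤ MulAut.conj g • Qg := by
        rw [hQg, Subgroup.smul_inf, Subgroup.Normal.conj_smul_eq_self g N]
        exact le_inf (sup_le inf_le_left fun x hx => hT.2 hx.1) (hSco ▸ hS)
      have heq : Qg = Qg ⊔ X := Subgroup.eq_of_le_of_card_ge le_sup_left
        ((Subgroup.card_le_of_le hle).trans (Core.card_conj_smul g _).le)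
      exact (le_sup_right.trans heq.ge).trans inf_le_right
    have hqN : (q : G) ∈ N := hq
    have hsup : N ≤ T ⊔ B := by
      conv_lhs => rw [hNsup]
      refine sSup_le fun L hL => ?_
      by_cases h : L = T
      · exact h ▸ le_sup_left
      · exact le_trans (le_inf hL.2 (hcomm T hT L hL h)) le_sup_right
    have hBT : B ≤ Subgroup.normalizer (T : Set G) := inf_le_left.trans (hLn T hT)
    have h1 := hsup hqN
    rw [← SetLike.mem_coe, Subgroup.coe_mul_of_right_le_normalizer_left _ _ hBT] at h1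
    obtain ⟨t, ht, c, hc, htc⟩ := h1
    have htP : t ∈ (P : Subgroup G) := hXle ⟨ht, c, hc, by
      show t * c ∈ Qg
      rw [show t * c = (q : G) from htc]
      exact ⟨hqN, q.2⟩⟩
    refine ⟨⟨t, htP⟩, ht, ?_⟩
    rw [Subgroup.coe_mul, Subgroup.coe_inv, ← show t * c = (q : G) from htc, inv_mul_cancel_left]
    exact hc.2
  -- the transfer-like homomorphism
  set CT := ((Subgroup.centralizer (T : Set G)).subgroupOf (P : Subgroup G)).subgroupOf Qp
    with hCTdef
  haveI hCn : CT.Normal := by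
    refine ⟨fun c hc v => ?_⟩
    have hc' : ((c : (P : Subgroup G)) : G) ∈ Subgroup.centralizer (T : Set G) := hc
    set w : G := ((v : (P : Subgroup G)) : G)
    show w * ((c : (P : Subgroup G)) : G) * w⁻¹ ∈ Subgroup.centralizer (T : Set G)
    refine Subgroup.mem_centralizer_iff.2 fun x hx => ?_
    have hw : w ∈ N := v.2
    have hx' : w⁻¹ * x * w ∈ T := by
      have := (Subgroup.mem_normalizer_iff.1 (hLn T hT (N.inv_mem hw)) x).1 hx
      simpa using this
    have h1 := Subgroup.mem_centralizer_iff.1 hc' _ hx'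
    set u := ((c : (P : Subgroup G)) : G)
    calc x * (w * u * w⁻¹) = w * ((w⁻¹ * x * w) * u) * w⁻¹ := by group
      _ = w * (u * (w⁻¹ * x * w)) * w⁻¹ := by rw [h1]
      _ = w * u * w⁻¹ * x := by group
  let α : Qp →* Abelianization (Qp ⧸ CT) := Abelianization.of.comp (QuotientGroup.mk' CT)
  let F : ℕ → Qp →* Abelianization (Qp ⧸ CT) := fun i =>
    α.comp (MulAut.conjNormal (b ^ i)).toMonoidHom
  have hF : ∀ i q, F i q = α (MulAut.conjNormal (b ^ i) q) := fun _ _ => rfl
  let ψ : Qp →* Abelianization (Qp ⧸ CT) := ∏ i ∈ Finset.range p, F i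
  have hψ : ∀ q, ψ q = ∏ i ∈ Finset.range p, F i q := fun q => MonoidHom.finsetProd_apply _ _ q
  have hbp : b ^ p ∈ Qp := by
    have h9 := Subgroup.pow_index_mem Qp b
    rwa [hQi] at h9
  have hψb : ∀ q, ψ (MulAut.conjNormal b q) = ψ q := by
    intro q
    rw [hψ, hψ]
    have h1 : ∀ i, F i (MulAut.conjNormal b q) = F (i + 1) q := fun i => by
      rw [hF, hF, pow_succ, map_mul, MulAut.mul_apply]
    simp only [h1]
    have h2 : F p q = F 0 q := by
      rw [hF, hF, pow_zero, map_one, MulAut.one_apply]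
      have e : MulAut.conjNormal (b ^ p) q = (⟨b ^ p, hbp⟩ : Qp) * q * (⟨b ^ p, hbp⟩ : Qp)⁻¹ :=
        Subtype.ext (by rw [MulAut.conjNormal_apply]; rfl)
      rw [e, map_mul, map_mul, map_inv, mul_comm (α ⟨b ^ p, hbp⟩), mul_inv_cancel_right]
    have h3 := Finset.prod_range_succ' (fun i => F i q) p
    rw [Finset.prod_range_succ, h2] at h3
    exact (mul_right_cancel h3).symm
  have hψT : ∀ t : Qp, ((t : (P : Subgroup G)) : G) ∈ T → ψ t = α t := by
    intro t ht
    rw [hψ, Finset.prod_eq_single 0]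
    · rw [hF, pow_zero, map_one, MulAut.one_apply]
    · intro i hi hi0
      rw [hF]
      have hmem : MulAut.conjNormal (b ^ i) t ∈ CT := by
        show (((MulAut.conjNormal (b ^ i) t : Qp) : (P : Subgroup G)) : G) ∈
          Subgroup.centralizer (T : Set G)
        rw [MulAut.conjNormal_apply, Subgroup.coe_mul, Subgroup.coe_mul, Subgroup.coe_inv,
          Subgroup.coe_pow]
        have hx : (b : G) ^ i * ((t : (P : Subgroup G)) : G) * ((b : G) ^ i)⁻¹ ∈
            MulAut.conj ((b : G) ^ i) • T := Core.conj_mem_conj_smul ht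
        exact hcomm T hT _ (hconjT _ T hT) (hbT i hi0 (Finset.mem_range.1 hi)) hx
      show Abelianization.of (QuotientGroup.mk' CT _) = 1
      rw [QuotientGroup.mk'_apply, (QuotientGroup.eq_one_iff _).2 hmem, map_one]
    · exact fun h => absurd (Finset.mem_range.2 hp.out.pos) h
  have hψs : Function.Surjective ψ := by
    intro a
    obtain ⟨r, rfl⟩ := QuotientGroup.mk'_surjective (commutator (Qp ⧸ CT)) a
    obtain ⟨q, rfl⟩ := QuotientGroup.mk'_surjective CT r
    obtain ⟨t, ht, htq⟩ := hdec q q.2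
    have htQ : t ∈ Qp := hT.2 ht
    refine ⟨⟨t, htQ⟩, ?_⟩
    rw [hψT _ ht]
    show Abelianization.of (QuotientGroup.mk' CT _) = Abelianization.of (QuotientGroup.mk' CT q)
    congr 1
    exact QuotientGroup.eq.2 htq
  have hkerle : commutator (P : Subgroup G) ≤ ψ.ker.map Qp.subtype := by
    haveI : (ψ.ker.map Qp.subtype).Normal := by
      rw [← Subgroup.normalizer_eq_top_iff, ← top_le_iff, ← zpowers_sup_eq_top hQi hb, sup_le_iff,
        Subgroup.zpowers_le]
      constructor
      · rw [Core.mem_normalizer_iff_conj_smul_eq]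
        refine Subgroup.eq_of_le_of_card_ge ?_ (Core.card_conj_smul b _).ge
        rintro x ⟨_, ⟨k, hk, rfl⟩, rfl⟩
        refine ⟨MulAut.conjNormal b k, ?_, MulAut.conjNormal_apply b k⟩
        show ψ _ = 1
        rw [hψb]; exact hk
      · intro v hv
        rw [Core.mem_normalizer_iff_conj_smul_eq]
        refine Subgroup.eq_of_le_of_card_ge ?_ (Core.card_conj_smul v _).ge
        rintro x ⟨_, ⟨k, hk, rfl⟩, rfl⟩
        exact ⟨⟨v, hv⟩ * k * ⟨v, hv⟩⁻¹, ψ.normal_ker.conj_mem k hk _, rfl⟩
    refine commutator_le_of Qp _ b (zpowers_sup_eq_top hQi hb) (fun a ha a' ha' => ?_)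
      (fun a ha => ?_)
    · refine ⟨⁅(⟨a, ha⟩ : Qp), ⟨a', ha'⟩⁆, ?_, map_commutatorElement Qp.subtype _ _⟩
      show ψ _ = 1
      rw [map_commutatorElement, commutatorElement_eq_one_iff_commute]
      exact Commute.all _ _
    · refine ⟨(⟨a, ha⟩ : Qp) * (MulAut.conjNormal b ⟨a, ha⟩)⁻¹, ?_, ?_⟩
      · show ψ _ = 1
        rw [map_mul, map_inv, hψb, mul_inv_cancel]
      · rw [map_mul, map_inv]
        show a * ((MulAut.conjNormal b (⟨a, ha⟩ : Qp) : Qp) : (P : Subgroup G))⁻¹ = ⁅a, b⁆
        rw [MulAut.conjNormal_apply, commutatorElement_def]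
        group
  have hR : IsPGroup p (Qp ⧸ CT) := (P.isPGroup'.to_subgroup Qp).to_quotient CT
  have hRab : commutator (Qp ⧸ CT) = ⊥ := by
    refine comm_of_index_le hR ?_
    have h1 := ψ.ker.card_mul_index
    rw [Subgroup.index_ker, MonoidHom.range_eq_top.2 hψs, Subgroup.card_top] at h1
    have h2 := Qp.card_mul_index
    have h3 := (commutator (P : Subgroup G)).card_mul_index
    rw [hidx] at h3
    rw [hQi, ← h3, ← h1] at h2
    have h4 := Subgroup.card_le_of_le hkerle
    rw [Subgroup.card_map_of_injective Qp.subtype_injective] at h4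
    rw [Subgroup.index_eq_card]
    show Nat.card (Abelianization (Qp ⧸ CT)) ≤ p
    refine Nat.le_of_mul_le_mul_left
      (?_ : Nat.card ψ.ker * Nat.card (Abelianization (Qp ⧸ CT)) ≤ Nat.card ψ.ker * p) Nat.card_pos
    refine le_trans (le_of_eq ?_) (Nat.mul_le_mul_right p h4)
    refine Nat.eq_of_mul_eq_mul_right hp.out.pos ?_
    rw [mul_assoc (Nat.card (commutator (P : Subgroup G))), ← pow_two]
    exact h2
  intro a ha a' ha'
  have hcT : ∀ u ∈ (P : Subgroup G), ((⁅a, a'⁆ : (P : Subgroup G)) : G) ∈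
      Subgroup.centralizer ((MulAut.conj u • T : Subgroup G) : Set G) := by
    intro u hu
    set u' : (P : Subgroup G) := ⟨u, hu⟩
    have hQn' : ∀ z ∈ Qp, u'⁻¹ * z * u' ∈ Qp := fun z hz => by
      simpa using hQn.conj_mem z hz u'⁻¹
    have h1 : ⁅QuotientGroup.mk' CT ⟨_, hQn' a ha⟩, QuotientGroup.mk' CT ⟨_, hQn' a' ha'⟩⁆ = 1 :=
      Subgroup.mem_bot.1 (hRab ▸ (by
        rw [commutator_def]
        exact Subgroup.commutator_mem_commutator (Subgroup.mem_top _) (Subgroup.mem_top _)))
    rw [← map_commutatorElement, QuotientGroup.mk'_apply, QuotientGroup.eq_one_iff] at h1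
    have h2 : u⁻¹ * ((⁅a, a'⁆ : (P : Subgroup G)) : G) * u ∈
        Subgroup.centralizer (T : Set G) := by
      have e : ((⁅(⟨_, hQn' a ha⟩ : Qp), ⟨_, hQn' a' ha'⟩⁆ : Qp) : (P : Subgroup G)) =
          u'⁻¹ * ⁅a, a'⁆ * u' := by
        show ⁅u'⁻¹ * a * u', u'⁻¹ * a' * u'⁆ = _
        rw [commutatorElement_def, commutatorElement_def]
        group
      have h3 : (((⁅(⟨_, hQn' a ha⟩ : Qp), ⟨_, hQn' a' ha'⟩⁆ : Qp) : (P : Subgroup G)) : G) ∈
          Subgroup.centralizer (T : Set G) := h1
      rw [e] at h3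
      exact h3
    refine Subgroup.mem_centralizer_iff.2 fun x hx => ?_
    set z := ((⁅a, a'⁆ : (P : Subgroup G)) : G)
    have h4 := Subgroup.mem_centralizer_iff.1 h2 _ (Core.mem_conj_smul_iff.1 hx)
    calc x * z = u * ((u⁻¹ * x * u) * (u⁻¹ * z * u)) * u⁻¹ := by group
      _ = u * ((u⁻¹ * z * u) * (u⁻¹ * x * u)) * u⁻¹ := by rw [h4]
      _ = z * x := by group
  set z := ((⁅a, a'⁆ : (P : Subgroup G)) : G) with hz
  have hle : N ≤ Subgroup.centralizer ({z} : Set G) := hNsup.trans_le (sSup_le fun L hL x hx => by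
    obtain ⟨u, hu, rfl⟩ := horbit L hL
    exact Subgroup.mem_centralizer_singleton_iff.2
      (Subgroup.mem_centralizer_iff.1 (hcT u hu) x hx))
  have hz1 : z ∈ Subgroup.centralizer (N : Set G) := Subgroup.mem_centralizer_iff.2 fun x hx =>
    Subgroup.mem_centralizer_singleton_iff.1 (hle hx)
  rw [hCN, Subgroup.mem_bot] at hz1
  exact commutatorElement_eq_one_iff_commute.1 (Subtype.ext hz1)

/-- Some conjugate in `P` of a `p`-element has centraliser in `P` of order the `p`-part of the
centraliser order. -/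
theorem exists_conj_mem (P : Sylow p G) {x : G} (hx : ∃ k : ℕ, orderOf x = p ^ k) :
    ∃ g : G, ∃ h : g * x * g⁻¹ ∈ (P : Subgroup G),
      Nat.card (Subgroup.centralizer ({⟨_, h⟩} : Set (P : Subgroup G))) =
        p ^ (Nat.card (Subgroup.centralizer ({x} : Set G))).factorization p := by
  obtain ⟨k, hk⟩ := hx
  set C := Subgroup.centralizer ({x} : Set G) with hC
  have hxC : x ∈ C := Subgroup.mem_centralizer_singleton_iff.2 rfl
  obtain ⟨R⟩ : Nonempty (Sylow p C) := inferInstance
  set xc : C := ⟨x, hxC⟩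
  haveI : (Subgroup.zpowers xc).Normal := ⟨fun z hz w => by
    obtain ⟨i, rfl⟩ := Subgroup.mem_zpowers_iff.1 hz
    have hc : Commute w xc := Subtype.ext (Subgroup.mem_centralizer_singleton_iff.1 w.2)
    rw [(hc.zpow_right i).eq, mul_inv_cancel_right]
    exact Subgroup.mem_zpowers_iff.2 ⟨i, rfl⟩⟩
  have hxR : xc ∈ (R : Subgroup C) := by
    have hz : IsPGroup p (Subgroup.zpowers xc) := IsPGroup.of_card (n := k) (by
      rw [Nat.card_zpowers, ← hk, ← Subgroup.orderOf_coe])
    exact hz.le_sylow_of_normal R (Subgroup.mem_zpowers _)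
  obtain ⟨S, hS⟩ := (R.isPGroup'.map C.subtype).exists_le_sylow
  obtain ⟨g, hg⟩ := MulAction.exists_smul_eq G S P
  have hmem : ∀ r ∈ (R : Subgroup C), g * (r : G) * g⁻¹ ∈ (P : Subgroup G) := fun r hr => by
    rw [← hg, Sylow.coe_subgroup_smul]
    exact Core.conj_mem_conj_smul (hS ⟨r, hr, rfl⟩)
  refine ⟨g, hmem xc hxR, ?_⟩
  set C' := Subgroup.centralizer ({⟨_, hmem xc hxR⟩} : Set (P : Subgroup G))
  have hRc : Nat.card R = p ^ (Nat.card C).factorization p := R.card_eq_multiplicity
  apply le_antisymm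
  · let F : C' →* C :=
      { toFun := fun c => ⟨g⁻¹ * ((c : (P : Subgroup G)) : G) * g,
          Subgroup.mem_centralizer_singleton_iff.2 (by
            have h1 : ((c : (P : Subgroup G)) : G) * (g * x * g⁻¹) =
                g * x * g⁻¹ * ((c : (P : Subgroup G)) : G) :=
              congrArg Subtype.val (Subgroup.mem_centralizer_singleton_iff.1 c.2)
            calc g⁻¹ * ((c : (P : Subgroup G)) : G) * g * x
                = g⁻¹ * (((c : (P : Subgroup G)) : G) * (g * x * g⁻¹)) * g := by group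
              _ = g⁻¹ * (g * x * g⁻¹ * ((c : (P : Subgroup G)) : G)) * g := by rw [h1]
              _ = x * (g⁻¹ * ((c : (P : Subgroup G)) : G) * g) := by group)⟩
        map_one' := Subtype.ext (by simp)
        map_mul' := fun c d => Subtype.ext (by simp [mul_assoc]) }
    have hFi : Function.Injective F := fun c d h => by
      have h1 := congrArg Subtype.val h
      simp only [F, MonoidHom.coe_mk, OneHom.coe_mk, mul_right_inj, mul_left_inj] at h1
      exact Subtype.ext (Subtype.ext h1)
    obtain ⟨j, hj⟩ := IsPGroup.iff_card.1 (P.isPGroup'.to_subgroup C')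
    have hd := Subgroup.card_dvd_of_injective F hFi
    rw [hj] at hd ⊢
    exact Nat.pow_le_pow_right hp.out.pos
      ((hp.out.pow_dvd_iff_le_factorization Nat.card_pos.ne').1 hd)
  · rw [← hRc]
    refine Nat.card_le_card_of_injective (fun r => ⟨⟨g * ((r : C) : G) * g⁻¹, hmem r r.2⟩, ?_⟩) ?_
    · refine Subgroup.mem_centralizer_singleton_iff.2 (Subtype.ext ?_)
      have h1 : ((r : C) : G) * x = x * ((r : C) : G) :=
        Subgroup.mem_centralizer_singleton_iff.1 (r : C).2
      show g * ((r : C) : G) * g⁻¹ * (g * x * g⁻¹) = g * x * g⁻¹ * (g * ((r : C) : G) * g⁻¹)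
      calc g * ((r : C) : G) * g⁻¹ * (g * x * g⁻¹) = g * (((r : C) : G) * x) * g⁻¹ := by group
        _ = g * (x * ((r : C) : G)) * g⁻¹ := by rw [h1]
        _ = _ := by group
    · intro r s h
      have h1 := congrArg (fun z : C' => ((z : (P : Subgroup G)) : G)) h
      simp only [mul_right_inj, mul_left_inj] at h1
      exact Subtype.ext (Subtype.ext h1)

end CfsgLib.SmallAbelianization
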